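import Cfsg.Agent.CoThreeStd.DeltaData
import Cfsg.Agent.KFacts.MulDef

-- merged: Cfsg.Agent.OddHalf.D9.TwoM12.Base
section

/-!
# Perfect double covers of `M12`: squares of the lifts of involutions

`π : L → M12` a perfect double cover with kernel `{1, c}`. Lifts of elements of class 2A have square `c`
(`sqA`), lifts of elements of class 2B have square `1` (`sqB`).
-/

set_option autoImplicit false
open scoped Pointwise
open Cfsg

namespace Cfsg.Agent.OddHalf.D9.TwoM12

open Cfsg.Agent.CoThreeStd.MTwelve Cfsg.Agent.CoThreeStd.InvTwo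
open Cfsg.Agent.KFacts.MulTwo Cfsg.Agent.KFacts.MulDef

/-! ### general double covers -/

section gen

variable {L X : Type*} [Group L] [Group X] {π : L →* X} {c : L}

theorem pc (D : Dbl π c) : π c = 1 := (D.ker c).2 (Or.inr rfl)

theorem inv_c (D : Dbl π c) : c⁻¹ = c := inv_eq_of_mul_eq_one_left D.sq

theorem eq_or (D : Dbl π c) {x y : L} (h : π x = π y) : x = y ∨ x = y * c := by
  have h1 : π (y⁻¹ * x) = 1 := by rw [map_mul, map_inv, h, inv_mul_cancel]
  rcases (D.ker _).1 h1 with h2 | h2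
  · left; exact (inv_mul_eq_one.1 h2).symm
  · right; rw [← h2, mul_inv_cancel_left]

theorem sq_eq (D : Dbl π c) {x y : L} (h : π x = π y) : x * x = y * y := by
  rcases eq_or D h with rfl | rfl
  · rfl
  · calc y * c * (y * c) = y * (c * y) * c := by group
      _ = y * (y * c) * c := by rw [D.cen]
      _ = y * y * (c * c) := by group
      _ = y * y := by rw [D.sq, mul_one]

theorem sq_conj (D : Dbl π c) {x y g : L} (h : π y = (π g)⁻¹ * π x * π g) : y * y = g⁻¹ * (x * x) * g := by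
  have h1 : π y = π (g⁻¹ * x * g) := by rw [h, map_mul, map_mul, map_inv]
  rw [sq_eq D h1]
  group

theorem sq_cases (D : Dbl π c) {x : L} (h : π x * π x = 1) : x * x = 1 ∨ x * x = c := by
  rw [← map_mul] at h
  exact (D.ker _).1 h

theorem cen_of (D : Dbl π c) {s : L} (h : s = 1 ∨ s = c) (x : L) : s * x = x * s := by
  rcases h with rfl | rfl
  · rw [one_mul, mul_one]
  · exact D.cen x

theorem sq_of (D : Dbl π c) {s : L} (h : s = 1 ∨ s = c) : s * s = 1 := by
  rcases h with rfl | rfl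
  · rw [one_mul]
  · exact D.sq

/-- the commutator of two elements from three squares -/
theorem swap_eq {a b s t u : L} (ha : a * a = s) (hb : b * b = t) (hab : a * b * (a * b) = u)
    (hs : s * s = 1) (ht : t * t = 1) (hsb : s * b = b * s) (hub : u * b = b * u) : b * a = a * b * (s * u * t) := by
  have h1 : a⁻¹ = a * s := by
    apply inv_eq_of_mul_eq_one_right
    rw [← mul_assoc, ha, hs]
  have h2 : b⁻¹ = b * t := by
    apply inv_eq_of_mul_eq_one_right
    rw [← mul_assoc, hb, ht]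
  calc b * a = a⁻¹ * (a * b * (a * b)) * b⁻¹ := by group
    _ = a * s * u * (b * t) := by rw [hab, h1, h2]
    _ = a * s * (u * b) * t := by group
    _ = a * s * (b * u) * t := by rw [hub]
    _ = a * (s * b) * u * t := by group
    _ = a * (b * s) * u * t := by rw [hsb]
    _ = _ := by group

end gen

/-! ### double covers of `M12` -/

variable {L : Type*} [Group L] {π : L →* H} {c : L}

theorem isA_of {l m : List ℕ} {x : L} (h : π x = wd l) (h' : eqW (cj [0] m) l = true) : IsA (π x) := by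
  rw [h]; exact isA_wd h'

theorem exists_s (D : Dbl π c) : ∃ s : L, (s = 1 ∨ s = c) ∧ (∀ x, IsA (π x) → x * x = s) ∧
    ∀ x, IsB (π x) → x * x = 1 := by
  obtain ⟨Y, hY⟩ := D.surj y
  obtain ⟨P, hP⟩ := D.surj p
  obtain ⟨R, hR⟩ := D.surj r
  have hs : Y * Y = 1 ∨ Y * Y = c := sq_cases D (by rw [hY, y_sq])
  obtain ⟨s, hsd⟩ : ∃ s, s = Y * Y := ⟨_, rfl⟩
  rw [← hsd] at hs
  have hsc := cen_of D hs
  have hss := sq_of D hs
  have hA : ∀ x, IsA (π x) → x * x = s := by
    rintro x ⟨k, hk⟩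
    obtain ⟨K, rfl⟩ := D.surj k
    rw [sq_conj D (x := Y) (g := K) (by rw [hY, hk]), ← hsd, mul_assoc, hsc, inv_mul_cancel_left]
  refine ⟨s, hs, hA, ?_⟩
  have hPP : P * P = s := hA P (isA_of (l := [1]) (m := [5, 1, 5, 0, 2, 5, 2]) (by rw [hP, wd_p]) (by decide +kernel))
  have hRR : R * R = s := hA R (isA_of (l := [3]) (m := [5, 0, 5, 0, 3, 5]) (by rw [hR, wd_r]) (by decide +kernel))
  have hYP : Y * P * (Y * P) = s := hA _ (isA_of (l := [0, 1]) (m := [5, 0, 1, 2, 5, 1, 5])
    (by rw [map_mul, hY, hP]; simp [wd, gen]) (by decide +kernel))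
  have hYR : Y * R * (Y * R) = s := hA _ (isA_of (l := [0, 3]) (m := [5, 0, 3, 5, 0, 5])
    (by rw [map_mul, hY, hR]; simp [wd, gen]) (by decide +kernel))
  have hYPR : Y * (P * R) * (Y * (P * R)) = s := hA _ (isA_of (l := [0, 1, 3]) (m := [5, 0, 1, 3, 5, 2, 4])
    (by rw [map_mul, map_mul, hY, hP, hR]; simp [wd, gen]) (by decide +kernel))
  have h1 : P * Y = Y * P * s := by
    have := swap_eq hsd.symm hPP hYP hss hss (hsc _) (hsc _)
    rwa [hss, one_mul] at this
  have h2 : R * Y = Y * R * s := by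
    have := swap_eq hsd.symm hRR hYR hss hss (hsc _) (hsc _)
    rwa [hss, one_mul] at this
  have h3 : (P * R) * Y = Y * (P * R) := by
    calc (P * R) * Y = P * (R * Y) := by group
      _ = P * (Y * R * s) := by rw [h2]
      _ = (P * Y) * R * s := by group
      _ = Y * P * (s * R) * s := by rw [h1]; group
      _ = Y * P * (R * s) * s := by rw [hsc]
      _ = Y * (P * R) * (s * s) := by group
      _ = _ := by rw [hss, mul_one]
  have h4 : (P * R) * (P * R) = 1 := by
    have h5 : Y * (P * R) * (Y * (P * R)) = s * ((P * R) * (P * R)) := by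
      calc Y * (P * R) * (Y * (P * R)) = Y * ((P * R) * Y) * (P * R) := by group
        _ = Y * (Y * (P * R)) * (P * R) := by rw [h3]
        _ = (Y * Y) * ((P * R) * (P * R)) := by group
        _ = _ := by rw [← hsd]
    rw [hYPR] at h5
    exact (mul_eq_left.1 h5.symm)
  rintro x ⟨k, hk⟩
  obtain ⟨K, rfl⟩ := D.surj k
  rw [sq_conj D (x := P * R) (g := K) (by rw [map_mul, hP, hR, hk]), h4, mul_one, inv_mul_cancel]

end Cfsg.Agent.OddHalf.D9.TwoM12

end

-- merged: Cfsg.Agent.OddHalf.D9.TwoM12.SqA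
section

/-!
# Perfect double covers of `M12`: the lifts of elements of class 2A have order 4
-/

set_option autoImplicit false
open scoped Pointwise
open Cfsg

namespace Cfsg.Agent.OddHalf.D9.TwoM12

open Cfsg.Agent.CoThreeStd.MTwelve Cfsg.Agent.CoThreeStd.InvTwo
open Cfsg.Agent.KFacts.MulTwo Cfsg.Agent.KFacts.MulDef
open Cfsg.Agent.ClassificationK.GTwoModel
open Cfsg.Agent.MTwelveType.SylowModel (A B C D hom hom_apply bp card_range_hom liftHom liftFun hom_injective
  relA relB relAB relC relD relCD relCA relCB relDA relDB)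

variable {L : Type*} [Group L] {π : L →* H} {c : L}

theorem false_of_sq [Finite L] (hD : Dbl π c) (h : ∀ x, π x * π x = 1 → x * x = 1) : False := by
  obtain ⟨a, ha⟩ := hD.surj A
  obtain ⟨x, hx⟩ := hD.surj C
  obtain ⟨e, he⟩ := hD.surj D
  have hxx : x * x = 1 := h x (by rw [hx]; exact relC)
  have hee : e * e = 1 := h e (by rw [he]; exact relD)
  have hxi : x⁻¹ = x := inv_eq_of_mul_eq_one_left hxx
  have hei : e⁻¹ = e := inv_eq_of_mul_eq_one_left hee
  obtain ⟨b, hbd⟩ : ∃ b, b = e * a * e := ⟨_, rfl⟩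
  have hb : π b = B := by
    rw [hbd, map_mul, map_mul, he, ha, relDA, mul_assoc, relD, mul_one]
  have inv_of : ∀ g : L, (g * x) * (g * x) = 1 → x * g = g⁻¹ * x := by
    intro g hg
    calc x * g = g⁻¹ * ((g * x) * (g * x)) * x⁻¹ := by group
      _ = g⁻¹ * x := by rw [hg, hxi, mul_one]
  have hxa : x * a = a⁻¹ * x := by
    apply inv_of
    apply h
    rw [map_mul, ha, hx]
    calc A * C * (A * C) = A * (C * A) * C := by group
      _ = A * (A⁻¹ * C) * C := by rw [relCA]
      _ = C * C := by group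
      _ = 1 := relC
  have hxb : x * b = b⁻¹ * x := by
    apply inv_of
    apply h
    rw [map_mul, hb, hx]
    calc B * C * (B * C) = B * (C * B) * C := by group
      _ = B * (B⁻¹ * C) * C := by rw [relCB]
      _ = C * C := by group
      _ = 1 := relC
  have hxab : x * (a * b) = (a * b)⁻¹ * x := by
    apply inv_of
    apply h
    rw [map_mul, map_mul, ha, hb, hx]
    calc A * B * C * (A * B * C) = A * B * (C * A) * B * C := by group
      _ = A * B * (A⁻¹ * C) * B * C := by rw [relCA]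
      _ = A * B * A⁻¹ * (C * B) * C := by group
      _ = A * B * A⁻¹ * (B⁻¹ * C) * C := by rw [relCB]
      _ = (A * B) * (B * A)⁻¹ * (C * C) := by group
      _ = 1 := by rw [← relAB, mul_inv_cancel, relC, mul_one]
  have hab : a * b = b * a := by
    have h1 : x * (a * b) = a⁻¹ * b⁻¹ * x := by
      calc x * (a * b) = (x * a) * b := by group
        _ = a⁻¹ * (x * b) := by rw [hxa]; group
        _ = _ := by rw [hxb]; group
    rw [hxab] at h1
    have h2 := mul_right_cancel h1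
    rw [← mul_inv_rev, inv_inj] at h2
    exact h2
  have ha4 : a ^ (2 * 2) = 1 := by
    have h1 : (a * a) * (a * a) = 1 := by
      apply h
      rw [map_mul, ha, ← pow_two, ← pow_two, ← pow_mul]
      exact relA
    rw [pow_mul, pow_two, pow_two]
    exact h1
  have hb4 : b ^ (2 * 2) = 1 := by
    have h1 : (b * b) * (b * b) = 1 := by
      apply h
      rw [map_mul, hb, ← pow_two, ← pow_two, ← pow_mul]
      exact relB
    rw [pow_mul, pow_two, pow_two]
    exact h1
  have hxe : x * e = e * x := by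
    have h1 : (x * e) * (x * e) = 1 := by
      apply h
      rw [map_mul, hx, he]
      calc C * D * (C * D) = C * (D * C) * D := by group
        _ = C * (C * D) * D := by rw [relCD]
        _ = (C * C) * (D * D) := by group
        _ = 1 := by rw [relC, relD, mul_one]
    calc x * e = (x * e) * (x * e) * (e⁻¹ * x⁻¹) := by group
      _ = e * x := by rw [h1, hei, hxi, one_mul]
  have hea : e * a = b * e := by rw [hbd, mul_assoc (e * a), hee, mul_one]
  have heb : e * b = a * e := by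
    rw [hbd]
    calc e * (e * a * e) = (e * e) * a * e := by group
      _ = a * e := by rw [hee, one_mul]
  let σ : T (2 * 2) →* L := liftHom ha4 hb4 hab hxx hee hxe hxa hxb hea heb
  have hσ : ∀ t, π (σ t) = hom t := by
    intro t
    rw [hom_apply]
    show π (a ^ t.i.val * b ^ t.j.val * (bp x t.e * bp e t.d)) = _
    rw [map_mul, map_mul, map_pow, map_pow, map_mul, ha, hb]
    congr 2
    · cases t.e
      · exact map_one π
      · exact hx
    · cases t.d
      · exact map_one π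
      · exact he
  refine hD.toCtr.false_of_compl (P := hom.range.comap π) (P₁ := σ.range) ?_ ?_ ?_ ?_
  · rw [Subgroup.mem_comap, pc hD]
    exact one_mem _
  · rw [Subgroup.index_comap_of_surjective _ hD.surj]
    have h1 := (hom.range).card_mul_index
    rw [card_range_hom, card_H] at h1
    have h2 : (hom.range).index = 1485 := by omega
    rw [h2]
    norm_num
  · rintro ⟨t, ht⟩
    have h1 := hσ t
    rw [ht, pc hD] at h1
    have h2 : t = 1 := hom_injective (h1.symm.trans (map_one hom).symm)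
    rw [h2, map_one] at ht
    exact hD.ne ht.symm
  · rintro g ⟨t, ht⟩
    rw [← hσ] at ht
    rcases eq_or hD ht.symm with h1 | h1
    · left; exact ⟨t, h1.symm⟩
    · right
      refine ⟨t, ?_⟩
      rw [h1, ← hD.cen, ← mul_assoc, hD.sq, one_mul]

variable [Finite L]

/-- **Lifts of elements of class 2A have order 4.** -/
theorem sqA (hD : Dbl π c) {x : L} (h : IsA (π x)) : x * x = c := by
  obtain ⟨s, hs, hA, hB⟩ := exists_s hD
  rcases hs with rfl | rfl
  · exfalso
    apply false_of_sq hD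
    intro x hx
    by_cases h1 : π x = 1
    · rcases (hD.ker x).1 h1 with rfl | rfl
      · exact one_mul _
      · exact hD.sq
    · rcases inv_class (π x) h1 hx with h2 | h2
      · exact hA x h2
      · exact hB x h2
  · exact hA x h

/-- **Lifts of elements of class 2B have order 2.** -/
theorem sqB (hD : Dbl π c) {x : L} (h : IsB (π x)) : x * x = 1 := by
  obtain ⟨s, hs, hA, hB⟩ := exists_s hD
  exact hB x h

end Cfsg.Agent.OddHalf.D9.TwoM12

end

-- merged: Cfsg.Agent.OddHalf.D9.TwoM12.Roots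
section

/-!
# Perfect double covers of `M12`: square roots of the lifts of 2B-involutions

All square roots (in `M12`) of `p r` have lifts with the same square (`root_same`).
-/

set_option autoImplicit false
open scoped Pointwise
open Cfsg

namespace Cfsg.Agent.OddHalf.D9.TwoM12

open Cfsg.Agent.CoThreeStd.MTwelve Cfsg.Agent.CoThreeStd.InvTwo
open Cfsg.Agent.CoThreeStd.DeltaData (mem_cbe cbe)
open Cfsg.Agent.KFacts.MulTwo Cfsg.Agent.KFacts.MulDef

/-! ### `M12` -/

/-- a square root of `p r` -/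
def wu : List ℕ := [0, 1, 2, 1, 3, 2]
/-- a square root of `p r` -/
def wv : List ℕ := [1, 2, 1, 3, 2]
/-- an element of order 3 in the centraliser of `p r` -/
def wn : List ℕ := [1, 2, 4, 5, 3, 2, 5, 1, 5]

/-- all square roots -/
def rl : List (List ℕ × List ℕ) :=
  [(wu, []), (wu, wn), (wu, wn ++ wn), (wu.reverse, []), (wu.reverse, wn), (wu.reverse, wn ++ wn),
    (wv, []), (wv, wn), (wv, wn ++ wn), (wv.reverse, []), (wv.reverse, wn), (wv.reverse, wn ++ wn)]

/-- test for an element of the centraliser -/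
def tR (l : List ℕ) : Bool := !(eqW (l ++ l) [1, 3]) || rl.any (fun x => eqW l (cj x.1 x.2))

set_option maxRecDepth 100000 in
theorem tR_all : cbe.all tR = true := by decide +kernel

theorem cbe_check {t : List ℕ → Bool} (h : cbe.all t = true) (m : H) (hm : m * (p * r) = (p * r) * m) :
    ∃ l, wd l = m ∧ t l = true := by
  obtain ⟨l, hl, h1⟩ := mem_cbe m (by
    show m * wd [1, 3] = wd [1, 3] * m
    rw [wd_pr]
    exact hm)
  exact ⟨l, h1, List.all_eq_true.mp h l hl⟩

theorem roots {x : H} (hx : x * x = p * r) : ∃ a ∈ rl, x = (wd a.2)⁻¹ * wd a.1 * wd a.2 := by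
  obtain ⟨l, rfl, h⟩ := cbe_check tR_all x (by rw [← hx, mul_assoc])
  rw [tR, Bool.or_eq_true] at h
  rcases h with h | h
  · exfalso
    have h1 : eqW (l ++ l) [1, 3] = true := by
      apply eqW_of_wd
      rw [wd_append, hx, wd_pr]
    rw [h1] at h
    exact Bool.noConfusion h
  · obtain ⟨a, ha, h1⟩ := List.any_eq_true.mp h
    exact ⟨a, ha, by rw [← wd_cj, wd_eq h1]⟩

theorem wn_cube : wd wn ^ 3 = 1 := by
  rw [← wd_wpow]
  exact wd_eq (l' := []) (by decide +kernel)

theorem wnn_cube : wd (wn ++ wn) ^ 3 = 1 := by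
  rw [← wd_wpow]
  exact wd_eq (l' := []) (by decide +kernel)

theorem comm_wd {l : List ℕ} (h : eqW (l ++ [1, 3]) ([1, 3] ++ l) = true) : wd l * (p * r) = p * r * wd l := by
  have h1 := wd_eq h
  rwa [wd_append, wd_append, wd_pr] at h1

theorem wn_comm : wd wn * (p * r) = p * r * wd wn := comm_wd (by decide +kernel)
theorem wnn_comm : wd (wn ++ wn) * (p * r) = p * r * wd (wn ++ wn) := comm_wd (by decide +kernel)

theorem wu_sq : wd wu * wd wu = p * r := by
  rw [← wd_append, ← wd_pr]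
  exact wd_eq (by decide +kernel)

theorem wv_sq : wd wv * wd wv = p * r := by
  rw [← wd_append, ← wd_pr]
  exact wd_eq (by decide +kernel)

theorem rl_spec : ∀ a ∈ rl, a.1 ∈ [wu, wu.reverse, wv, wv.reverse] ∧ a.2 ∈ [[], wn, wn ++ wn] := by
  decide +kernel

theorem n_spec (n : List ℕ) (hn : n ∈ [[], wn, wn ++ wn]) :
    wd n ^ 3 = 1 ∧ wd n * (p * r) = (p * r) * wd n := by
  rw [List.mem_cons, List.mem_cons, List.mem_singleton] at hn
  rcases hn with h | h | h
  · rw [h, wd_nil, one_pow, one_mul, mul_one]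
    exact ⟨rfl, rfl⟩
  · rw [h]
    exact ⟨wn_cube, wn_comm⟩
  · rw [h]
    exact ⟨wnn_cube, wnn_comm⟩

theorem isB_pr' {x : H} (h : x = p * r) : IsB x := h ▸ isB_pr

/-! ### the cover -/

variable {L : Type*} [Group L] {π : L →* H} {c : L}

theorem cube_c (hD : Dbl π c) : c * c * c = c := by rw [hD.sq, one_mul]

/-- lifting elements of order 3 -/
theorem exists_cube (hD : Dbl π c) {n : H} (hn : n ^ 3 = 1) : ∃ N, π N = n ∧ N ^ 3 = 1 := by
  obtain ⟨N, hN⟩ := hD.surj n
  have h1 : π (N ^ 3) = 1 := by rw [map_pow, hN, hn]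
  refine ⟨N ^ 4, ?_, ?_⟩
  · rw [map_pow, hN, pow_succ, hn, one_mul]
  · rw [← pow_mul, show 4 * 3 = 3 * 4 from rfl, pow_mul]
    rcases (hD.ker _).1 h1 with h2 | h2
    · rw [h2, one_pow]
    · have h3 : c ^ 2 = 1 := by rw [pow_two, hD.sq]
      rw [h2, show (4 : ℕ) = 2 * 2 from rfl, pow_mul, h3, one_pow]

/-- elements of order 3 commute with the lift of an element which they centralise modulo `c` -/
theorem comm_cube (hD : Dbl π c) {N F : L} (hN : N ^ 3 = 1) (h : π N * π F = π F * π N) : N * F = F * N := by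
  rcases eq_or hD (x := N * F) (y := F * N) (by rw [map_mul, map_mul, h]) with h1 | h1
  · exact h1
  · exfalso
    have h2 : N * N * F = F * (N * N) := by
      calc N * N * F = N * (N * F) := by group
        _ = N * (F * N * c) := by rw [h1]
        _ = (N * F) * (N * c) := by group
        _ = F * N * (c * N) * c := by rw [h1]; group
        _ = F * N * (N * c) * c := by rw [hD.cen]
        _ = F * (N * N) * (c * c) := by group
        _ = _ := by rw [hD.sq, mul_one]
    have h3 : N ^ 3 * F = F * N ^ 3 * c := by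
      calc N ^ 3 * F = N * (N * N * F) := by rw [pow_three]; group
        _ = (N * F) * (N * N) := by rw [h2]; group
        _ = F * N * (c * (N * N)) := by rw [h1]; group
        _ = F * N * (N * N * c) := by rw [hD.cen]
        _ = _ := by rw [pow_three]; group
    rw [hN, one_mul, mul_one] at h3
    exact hD.ne (mul_eq_left.1 h3.symm)

theorem root_conj (hD : Dbl π c) {x x' : L} {n : H} (hn : n ^ 3 = 1) (hnb : n * (p * r) = (p * r) * n)
    (hx : π x * π x = p * r) (h : π x' = n⁻¹ * π x * n) : x' * x' = x * x := by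
  obtain ⟨N, rfl, hN⟩ := exists_cube hD hn
  rw [sq_conj hD h]
  have h1 := comm_cube hD hN (F := x * x) (by rw [map_mul, hx]; exact hnb)
  rw [mul_assoc, ← h1, inv_mul_cancel_left]

variable [Finite L]

theorem inv_root (hD : Dbl π c) {x : L} (hx : π x * π x = p * r) : (x * x) * (x * x) = 1 :=
  sqB hD (isB_pr' (by rw [map_mul, hx]))

theorem root_inv (hD : Dbl π c) {x x' : L} (hx : π x * π x = p * r) (h : π x' = (π x)⁻¹) :
    x' * x' = x * x := by
  rw [sq_eq hD (x := x') (y := x⁻¹) (by rw [h, map_inv]), ← mul_inv_rev]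
  exact inv_eq_of_mul_eq_one_left (inv_root hD hx)

theorem root_uv (hD : Dbl π c) {U V : L} (hU : π U = wd wu) (hV : π V = wd wv) : U * U = V * V := by
  obtain ⟨W, hW⟩ := hD.surj (wd (cj wv wn))
  have hUs : π U * π U = p * r := by rw [hU, wu_sq]
  have hVs : π V * π V = p * r := by rw [hV, wv_sq]
  have hW2 : W * W = V * V := root_conj hD wn_cube wn_comm hVs (by rw [hW, hV, wd_cj])
  have hVW : V * W * (V * W) = V * V := root_conj hD wnn_cube wnn_comm hVs (by
    rw [map_mul, hV, hW, ← wd_cj, ← wd_append]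
    exact wd_eq (by decide +kernel))
  have h1 : U * V * (U * V) = c := sqA hD (by
    rw [map_mul, hU, hV, ← wd_append]
    exact isA_wd (m := [5, 0, 1, 3, 5, 2, 4]) (by decide +kernel))
  have h2 : U * W * (U * W) = c := sqA hD (by
    rw [map_mul, hU, hW, ← wd_append]
    exact isA_wd (m := [5, 2, 4, 5]) (by decide +kernel))
  have h3 : U * (V * W) * (U * (V * W)) = 1 := sqB hD (by
    rw [map_mul, map_mul, hU, hV, hW, ← wd_append, ← wd_append]
    exact isB_wd (m := [5, 0, 2, 5, 0]) (by decide +kernel))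
  obtain ⟨a, ha⟩ : ∃ a, a = U * U := ⟨_, rfl⟩
  obtain ⟨b, hb⟩ : ∃ b, b = V * V := ⟨_, rfl⟩
  have haa : a * a = 1 := by rw [ha]; exact inv_root hD hUs
  have hbb : b * b = 1 := by rw [hb]; exact inv_root hD hVs
  have hab : a = b ∨ a = b * c := by
    rw [ha, hb]
    exact eq_or hD (by rw [map_mul, map_mul, hUs, hVs])
  have comm_of : ∀ g : L, b * g = g * b → a * g = g * a := by
    intro g hg
    rcases hab with h | h
    · rw [h]; exact hg
    · rw [h]
      calc b * c * g = b * (c * g) := by group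
        _ = b * (g * c) := by rw [hD.cen]
        _ = (b * g) * c := by group
        _ = g * b * c := by rw [hg]
        _ = g * (b * c) := by group
  have hbV : b * V = V * b := by rw [hb, mul_assoc]
  have hbW : b * W = W * b := by rw [hb, ← hW2, mul_assoc]
  have e1 : V * U = U * V * (a * c * b) := swap_eq ha.symm hb.symm h1 haa hbb (comm_of V hbV) (hD.cen _)
  have e2 : W * U = U * W * (a * c * b) := swap_eq ha.symm (hW2.trans hb.symm) h2 haa hbb (comm_of W hbW) (hD.cen _)
  have hacb : a * c * b = c ∨ a * c * b = 1 := by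
    rcases hab with h | h
    · left
      rw [h]
      calc b * c * b = b * (c * b) := by group
        _ = b * (b * c) := by rw [hD.cen]
        _ = c := by rw [← mul_assoc, hbb, one_mul]
    · right
      rw [h]
      calc b * c * c * b = b * (c * c) * b := by group
        _ = 1 := by rw [hD.sq, mul_one, hbb]
  have hcen : ∀ g : L, a * c * b * g = g * (a * c * b) := cen_of hD hacb.symm
  have hsq : a * c * b * (a * c * b) = 1 := sq_of hD hacb.symm
  have e3 : (V * W) * U = U * (V * W) := by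
    calc (V * W) * U = V * (W * U) := by group
      _ = V * (U * W * (a * c * b)) := by rw [e2]
      _ = (V * U) * W * (a * c * b) := by group
      _ = U * V * ((a * c * b) * W) * (a * c * b) := by rw [e1]; group
      _ = U * V * (W * (a * c * b)) * (a * c * b) := by rw [hcen]
      _ = U * (V * W) * ((a * c * b) * (a * c * b)) := by group
      _ = _ := by rw [hsq, mul_one]
  have e4 : a * b = 1 := by
    calc a * b = (U * U) * (V * W * (V * W)) := by rw [hVW, ha, hb]
      _ = U * (U * (V * W)) * (V * W) := by group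
      _ = U * ((V * W) * U) * (V * W) := by rw [e3]
      _ = U * (V * W) * (U * (V * W)) := by group
      _ = 1 := h3
  rw [← ha, ← hb]
  exact (eq_inv_of_mul_eq_one_left e4).trans (inv_eq_of_mul_eq_one_left hbb)

theorem root_eq (hD : Dbl π c) {U : L} (hU : π U = wd wu) {x : L} (hx : π x * π x = p * r) : x * x = U * U := by
  obtain ⟨V, hV⟩ := hD.surj (wd wv)
  have hUs : π U * π U = p * r := by rw [hU, wu_sq]
  have hVs : π V * π V = p * r := by rw [hV, wv_sq]
  have hUV := root_uv hD hU hV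
  -- the four base points
  have key : ∀ l, l ∈ [wu, wu.reverse, wv, wv.reverse] → ∀ Z, π Z = wd l → π Z * π Z = p * r ∧ Z * Z = U * U := by
    intro l hl Z hZ
    have hinv : ∀ z : L, π z * π z = p * r → (π z)⁻¹ * (π z)⁻¹ = p * r := by
      intro z hz
      rw [← mul_inv_rev, hz]
      exact inv_eq_of_mul_eq_one_left pr_sq
    rw [List.mem_cons, List.mem_cons, List.mem_cons, List.mem_singleton] at hl
    rcases hl with rfl | rfl | rfl | rfl
    · exact ⟨by rw [hZ, wu_sq], sq_eq hD (hZ.trans hU.symm)⟩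
    · have h1 : π Z = (π U)⁻¹ := by rw [hZ, hU, wd_reverse]
      exact ⟨by rw [h1]; exact hinv U hUs, root_inv hD hUs h1⟩
    · exact ⟨by rw [hZ, wv_sq], (sq_eq hD (hZ.trans hV.symm)).trans hUV.symm⟩
    · have h1 : π Z = (π V)⁻¹ := by rw [hZ, hV, wd_reverse]
      exact ⟨by rw [h1]; exact hinv V hVs, (root_inv hD hVs h1).trans hUV.symm⟩
  obtain ⟨⟨l, n⟩, ha, h1⟩ := roots hx
  have hl : l ∈ [wu, wu.reverse, wv, wv.reverse] := (rl_spec _ ha).1
  obtain ⟨hn, hnb⟩ := n_spec n (rl_spec _ ha).2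
  obtain ⟨Z, hZ⟩ := hD.surj (wd l)
  obtain ⟨hZs, hZU⟩ := key l hl Z hZ
  rw [← hZU]
  exact root_conj hD hn hnb hZs (by rw [h1, hZ])

/-- **All roots have the same square.** -/
theorem root_same (hD : Dbl π c) {x x' : L} (hx : π x * π x = p * r) (hx' : π x' * π x' = p * r) :
    x * x = x' * x' := by
  obtain ⟨U, hU⟩ := hD.surj (wd wu)
  rw [root_eq hD hU hx, root_eq hD hU hx']

end Cfsg.Agent.OddHalf.D9.TwoM12

end

-- merged: Cfsg.Agent.OddHalf.D9.TwoM12.Fields
section

/-!
# Perfect double covers of `M12`: involutions, their roots, their centralisers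
-/

set_option autoImplicit false
open scoped Pointwise
open Cfsg

namespace Cfsg.Agent.OddHalf.D9.TwoM12

open Cfsg.Agent.CoThreeStd.MTwelve Cfsg.Agent.CoThreeStd.InvTwo
open Cfsg.Agent.KFacts.MulTwo Cfsg.Agent.KFacts.MulDef

/-- elements of class 2A are not squares -/
theorem not_isA_sq (g : H) : ¬ IsA (g * g) := by
  rintro ⟨k, hk⟩
  have h1 : (k * g * k⁻¹) * (k * g * k⁻¹) = y := by
    calc (k * g * k⁻¹) * (k * g * k⁻¹) = k * (g * g) * k⁻¹ := by group
      _ = k * (k⁻¹ * y * k) * k⁻¹ := by rw [hk]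
      _ = y := by group
  obtain ⟨σ, h2⟩ := cent_y (k * g * k⁻¹) (by rw [← h1]; exact (mul_assoc _ _ _).symm)
  rcases h2 with h2 | h2
  · rw [h2, ← map_mul] at h1
    exact y_ne_w _ h1.symm
  · rw [h2] at h1
    apply y_ne_w (σ * σ)
    calc y = y * w σ * (y * w σ) := h1.symm
      _ = y * (w σ * y) * w σ := by group
      _ = y * (y * w σ) * w σ := by rw [y_comm]
      _ = (y * y) * (w σ * w σ) := by group
      _ = w (σ * σ) := by rw [y_sq, one_mul, map_mul]

theorem pow_four_eq {M : Type*} [Monoid M] (x : M) : x ^ 4 = (x * x) * (x * x) := by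
  rw [show (4 : ℕ) = 2 * 2 from rfl, pow_mul, pow_two, pow_two]

variable {L : Type*} [Group L] {π : L →* H} {c : L}

/-- elements of order 3 centralising `f` -/
theorem lift_cube (hD : Dbl π c) {f g : L} (hg : π g * π f * (π g)⁻¹ = p * r) {t : H} (ht : t ^ 3 = 1)
    (htc : t * (p * r) = p * r * t) : ∃ T : L, T * f = f * T ∧ T ^ 3 = 1 ∧ π T = (π g)⁻¹ * t * π g := by
  obtain ⟨T, hT, hT3⟩ := exists_cube hD (n := (π g)⁻¹ * t * π g) (by
    calc ((π g)⁻¹ * t * π g) ^ 3 = (π g)⁻¹ * t ^ 3 * π g := by rw [pow_three, pow_three]; group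
      _ = 1 := by rw [ht]; group)
  refine ⟨T, comm_cube hD hT3 ?_, hT3, hT⟩
  rw [hT]
  have h1 : π f = (π g)⁻¹ * (p * r) * π g := by rw [← hg]; group
  rw [h1]
  calc (π g)⁻¹ * t * π g * ((π g)⁻¹ * (p * r) * π g) = (π g)⁻¹ * (t * (p * r)) * π g := by group
    _ = (π g)⁻¹ * (p * r * t) * π g := by rw [htc]
    _ = _ := by group

variable [Finite L]

theorem isB_of (hD : Dbl π c) {f : L} (h2 : f * f = 1) (h1 : f ≠ 1) (hc : f ≠ c) : IsB (π f) := by
  rcases inv_class (π f) (fun h => by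
    rcases (hD.ker f).1 h with h | h
    · exact h1 h
    · exact hc h) (by rw [← map_mul, h2, map_one]) with h | h
  · exfalso
    have := sqA hD (x := f) h
    rw [h2] at this
    exact hD.ne this.symm
  · exact h

/-- moving an involution to one over `p r` -/
theorem exists_over (hD : Dbl π c) {f : L} (h2 : f * f = 1) (h1 : f ≠ 1) (hc : f ≠ c) :
    ∃ g : L, π g * π f * (π g)⁻¹ = p * r := by
  obtain ⟨k, hk⟩ := isB_of hD h2 h1 hc
  obtain ⟨g, rfl⟩ := hD.surj k
  exact ⟨g, by rw [← hk]; group⟩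

theorem conj_or (hD : Dbl π c) {f w : L} (h2 : f * f = 1) (h1 : f ≠ 1) (hc : f ≠ c) (h2' : w * w = 1)
    (h1' : w ≠ 1) (hc' : w ≠ c) : ∃ k, k * f * k⁻¹ = w ∨ k * (f * c) * k⁻¹ = w := by
  obtain ⟨g, hg⟩ := exists_over hD h2 h1 hc
  obtain ⟨g', hg'⟩ := exists_over hD h2' h1' hc'
  have h3 : π (g'⁻¹ * g * f * (g'⁻¹ * g)⁻¹) = π w := by
    rw [map_mul, map_mul, map_inv, map_mul, map_inv]
    calc (π g')⁻¹ * π g * π f * ((π g')⁻¹ * π g)⁻¹ = (π g')⁻¹ * (π g * π f * (π g)⁻¹) * π g' := by group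
      _ = (π g')⁻¹ * (π g' * π w * (π g')⁻¹) * π g' := by rw [hg, ← hg']
      _ = π w := by group
  refine ⟨g'⁻¹ * g, ?_⟩
  rcases eq_or hD h3 with h4 | h4
  · exact Or.inl h4
  · right
    have h5 : w = g'⁻¹ * g * f * (g'⁻¹ * g)⁻¹ * c := by rw [h4, mul_assoc, hD.sq, mul_one]
    rw [h5]
    have h6 : c * (g'⁻¹ * g)⁻¹ = (g'⁻¹ * g)⁻¹ * c := hD.cen _
    calc g'⁻¹ * g * (f * c) * (g'⁻¹ * g)⁻¹ = g'⁻¹ * g * f * (c * (g'⁻¹ * g)⁻¹) := by group
      _ = _ := by rw [h6]; group

theorem sq_or (hD : Dbl π c) {f : L} (h2 : f * f = 1) (h1 : f ≠ 1) (hc : f ≠ c) :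
    (∃ s, s * s = f) ∨ ∃ s, s * s = f * c := by
  obtain ⟨g, hg⟩ := exists_over hD h2 h1 hc
  obtain ⟨U, hU⟩ := hD.surj (wd wu)
  have h3 : π ((g⁻¹ * U * g) * (g⁻¹ * U * g)) = π f := by
    have h4 : (g⁻¹ * U * g) * (g⁻¹ * U * g) = g⁻¹ * (U * U) * g := by group
    rw [h4, map_mul, map_mul, map_inv, map_mul, hU, wu_sq, ← hg]
    group
  rcases eq_or hD h3 with h4 | h4
  · exact Or.inl ⟨_, h4⟩
  · exact Or.inr ⟨_, h4⟩

theorem sq_not (hD : Dbl π c) {f : L} (h2 : f * f = 1) (h1 : f ≠ 1) (hc : f ≠ c) {s t : L} (hs : s * s = f)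
    (ht : t * t = f * c) : False := by
  obtain ⟨g, hg⟩ := exists_over hD h2 h1 hc
  have key : ∀ x : L, π (x * x) = π f → π (g * x * g⁻¹) * π (g * x * g⁻¹) = p * r := by
    intro x hx
    rw [← hg, ← hx]
    simp only [map_mul, map_inv]
    group
  have h3 := root_same hD (key s (by rw [hs])) (key t (by rw [ht, map_mul, pc hD, mul_one]))
  have h4 : s * s = t * t := by
    calc s * s = g⁻¹ * ((g * s * g⁻¹) * (g * s * g⁻¹)) * g := by group
      _ = g⁻¹ * ((g * t * g⁻¹) * (g * t * g⁻¹)) * g := by rw [h3]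
      _ = t * t := by group
  rw [hs, ht] at h4
  exact hD.ne (mul_eq_left.1 h4.symm)

/-- squares over `f` are `f`, if `f` is a square -/
theorem sq_eq_of (hD : Dbl π c) {f : L} (h2 : f * f = 1) (h1 : f ≠ 1) (hc : f ≠ c) {s t : L} (hs : s * s = f)
    (ht : π t * π t = π f) : t * t = f := by
  rcases eq_or hD (x := t * t) (y := f) (by rw [map_mul, ht]) with h | h
  · exact h
  · exact (sq_not hD h2 h1 hc hs h).elim

theorem four_ne (hD : Dbl π c) (x : L) : x ^ 4 ≠ c := by
  intro h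
  have h4 : (x * x) * (x * x) = c := by rw [← h, pow_four_eq]
  have h5 : π (x * x) * π (x * x) = 1 := by rw [← map_mul, h4, pc hD]
  rcases inv_class (π (x * x)) (fun h6 => by
    rcases (hD.ker _).1 h6 with h7 | h7
    · rw [h7, one_mul] at h4; exact hD.ne h4.symm
    · rw [h7, hD.sq] at h4; exact hD.ne h4.symm) h5 with h6 | h6
  · rw [map_mul] at h6
    exact not_isA_sq _ h6
  · have h7 := sqB hD (x := x * x) h6
    rw [h4] at h7
    exact hD.ne h7

/-- elements of order 3 -/
def wt1 : List ℕ := [2, 5, 0, 1, 4, 3, 2, 5]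
/-- elements of order 3 -/
def wt2 : List ℕ := [2, 4, 5, 3, 2, 5, 1, 5, 1]

theorem wt1_cube : wd wt1 ^ 3 = 1 := by
  rw [← wd_wpow]
  exact wd_eq (l' := []) (by decide +kernel)
theorem wt2_cube : wd wt2 ^ 3 = 1 := by
  rw [← wd_wpow]
  exact wd_eq (l' := []) (by decide +kernel)
theorem wt1_comm : wd wt1 * (p * r) = p * r * wd wt1 := comm_wd (by decide +kernel)
theorem wt2_comm : wd wt2 * (p * r) = p * r * wd wt2 := comm_wd (by decide +kernel)

theorem y3c (hD : Dbl π c) {f : L} (h2 : f * f = 1) (h1 : f ≠ 1) (hc : f ≠ c) :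
    ∃ s ∈ Subgroup.closure {x : L | x * f = f * x ∧ x ^ 3 = 1}, s * s = c := by
  obtain ⟨g, hg⟩ := exists_over hD h2 h1 hc
  obtain ⟨T1, a1, a2, a3⟩ := lift_cube hD hg wt1_cube wt1_comm
  obtain ⟨T2, b1, b2, b3⟩ := lift_cube hD hg wn_cube wn_comm
  refine ⟨T1 * T2, mul_mem (Subgroup.subset_closure ⟨a1, a2⟩) (Subgroup.subset_closure ⟨b1, b2⟩), ?_⟩
  apply sqA hD
  have h3 : IsA (wd (wt1 ++ wn)) := isA_wd (m := [5, 2, 4, 5]) (by decide +kernel)
  have h4 := h3.conj (π g)
  rw [map_mul, a3, b3]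
  rw [wd_append] at h4
  have h5 : (π g)⁻¹ * wd wt1 * π g * ((π g)⁻¹ * wd wn * π g) = (π g)⁻¹ * (wd wt1 * wd wn) * π g := by group
  rw [h5]
  exact h4

theorem y3f (hD : Dbl π c) {f : L} (h2 : f * f = 1) (h1 : f ≠ 1) (hc : f ≠ c) {s : L} (hs : s * s = f) :
    ∃ s ∈ Subgroup.closure {x : L | x * f = f * x ∧ x ^ 3 = 1}, s * s = f := by
  obtain ⟨g, hg⟩ := exists_over hD h2 h1 hc
  obtain ⟨T1, a1, a2, a3⟩ := lift_cube hD hg wt1_cube wt1_comm
  obtain ⟨T2, b1, b2, b3⟩ := lift_cube hD hg wt2_cube wt2_comm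
  refine ⟨T1 * T2, mul_mem (Subgroup.subset_closure ⟨a1, a2⟩) (Subgroup.subset_closure ⟨b1, b2⟩), ?_⟩
  apply sq_eq_of hD h2 h1 hc hs
  have h3 : wd ((wt1 ++ wt2) ++ (wt1 ++ wt2)) = p * r := by
    rw [← wd_pr]
    exact wd_eq (by decide +kernel)
  rw [wd_append, wd_append] at h3
  have h1' : π f = (π g)⁻¹ * (p * r) * π g := by rw [← hg]; group
  rw [map_mul, a3, b3, h1', ← h3]
  group

/-- words of three involutions -/
def w1 : List ℕ := [5, 2, 4, 5]
/-- words of three involutions -/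
def w2 : List ℕ := [0, 5, 2, 4, 5, 0]
/-- words of three involutions -/
def w3 : List ℕ := [4, 5, 1, 2, 1, 4, 5, 4]
/-- words of three involutions -/
def w0 : List ℕ := [2, 1, 3, 2]

theorem isB_w0 : IsB (wd w0) := isB_wd (m := [2]) (by decide +kernel)
theorem isB_w1 : IsB (wd w1) := isB_wd (m := [4, 3, 2, 1, 5]) (by decide +kernel)
theorem isB_w2 : IsB (wd w2) := isB_wd (m := [2, 1, 5, 0, 2, 5]) (by decide +kernel)
theorem isB_w3 : IsB (wd w3) := isB_wd (m := [4, 3, 2, 5, 4]) (by decide +kernel)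
theorem isB_w0' : IsB (wd (w0 ++ [1, 3])) := isB_wd (m := [2, 1]) (by decide +kernel)
theorem isB_w1' : IsB (wd (w1 ++ [1, 3])) := isB_wd (m := [2, 5, 0, 4, 5, 1]) (by decide +kernel)
theorem isB_w2' : IsB (wd (w2 ++ [1, 3])) := isB_wd (m := [2, 1, 5, 0, 4, 5]) (by decide +kernel)
theorem isB_w3' : IsB (wd (w3 ++ [1, 3])) := isB_wd (m := [2, 4, 5, 4, 5, 0, 4]) (by decide +kernel)

/-- an involution centralising `f` -/
theorem lift_inv (hD : Dbl π c) {f g : L} (h2 : f * f = 1) (hg : π g * π f * (π g)⁻¹ = p * r) {l : List ℕ}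
    (hl : IsB (wd l)) (hl' : IsB (wd (l ++ [1, 3]))) :
    ∃ W : L, W * f = f * W ∧ W * W = 1 ∧ π W = (π g)⁻¹ * wd l * π g := by
  obtain ⟨W, hW⟩ := hD.surj ((π g)⁻¹ * wd l * π g)
  have h1 : W * W = 1 := sqB hD (by rw [hW]; exact hl.conj _)
  have h3 : W * f * (W * f) = 1 := by
    apply sqB hD
    have h1' : π f = (π g)⁻¹ * (p * r) * π g := by rw [← hg]; group
    have h4 := hl'.conj (π g)
    rw [wd_append, wd_pr] at h4
    rw [map_mul, hW, h1']
    have h5 : (π g)⁻¹ * wd l * π g * ((π g)⁻¹ * (p * r) * π g) = (π g)⁻¹ * (wd l * (p * r)) * π g := by group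
    rw [h5]
    exact h4
  refine ⟨W, ?_, h1, hW⟩
  have := swap_eq h1 h2 h3 (one_mul _) (one_mul _) (by rw [one_mul, mul_one]) (by rw [one_mul, mul_one])
  rw [one_mul, one_mul, mul_one] at this
  exact this.symm

theorem four_mem (hD : Dbl π c) {f : L} (h2 : f * f = 1) (h1 : f ≠ 1) (hc : f ≠ c) {s : L} (hs : s * s = f) :
    ∃ x ∈ Subgroup.closure {x : L | x * f = f * x ∧ x * x = 1}, x ^ 4 = f := by
  obtain ⟨g, hg⟩ := exists_over hD h2 h1 hc
  obtain ⟨W1, a1, a2, a3⟩ := lift_inv hD h2 hg isB_w1 isB_w1'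
  obtain ⟨W2, b1, b2, b3⟩ := lift_inv hD h2 hg isB_w2 isB_w2'
  obtain ⟨W3, d1, d2, d3⟩ := lift_inv hD h2 hg isB_w3 isB_w3'
  refine ⟨W1 * W2 * W3, mul_mem (mul_mem (Subgroup.subset_closure ⟨a1, a2⟩) (Subgroup.subset_closure ⟨b1, b2⟩))
    (Subgroup.subset_closure ⟨d1, d2⟩), ?_⟩
  rw [pow_four_eq]
  apply sq_eq_of hD h2 h1 hc hs
  have h3 : wd (((w1 ++ w2 ++ w3) ++ (w1 ++ w2 ++ w3)) ++ ((w1 ++ w2 ++ w3) ++ (w1 ++ w2 ++ w3))) = p * r := by
    rw [← wd_pr]
    exact wd_eq (by decide +kernel)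
  rw [wd_append, wd_append, wd_append, wd_append] at h3
  have h1' : π f = (π g)⁻¹ * (p * r) * π g := by rw [← hg]; group
  rw [h1', ← h3, map_mul, map_mul, map_mul, a3, b3, d3]
  group

/-- the conjugacy of `Y` and `Y c` -/
theorem conj_yc (hD : Dbl π c) : ∃ Y P : L, π Y = y ∧ P * Y * P⁻¹ = Y * c := by
  obtain ⟨Y, hY⟩ := hD.surj y
  obtain ⟨P, hP⟩ := hD.surj p
  refine ⟨Y, P, hY, ?_⟩
  have hYY : Y * Y = c := sqA hD (by rw [hY]; exact isA_y)
  have hPP : P * P = c := sqA hD (isA_of (l := [1]) (m := [5, 1, 5, 0, 2, 5, 2]) (by rw [hP, wd_p]) (by decide +kernel))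
  have hYP : Y * P * (Y * P) = c := sqA hD (isA_of (l := [0, 1]) (m := [5, 0, 1, 2, 5, 1, 5])
    (by rw [map_mul, hY, hP]; simp [wd, gen]) (by decide +kernel))
  have h1 := swap_eq hYY hPP hYP hD.sq hD.sq (hD.cen _) (hD.cen _)
  rw [hD.sq, one_mul] at h1
  rw [h1]
  calc Y * P * c * P⁻¹ = Y * P * (c * P⁻¹) := by group
    _ = Y * P * (P⁻¹ * c) := by rw [hD.cen]
    _ = Y * c := by group

theorem isA_of_sq (hD : Dbl π c) {k : L} (hk : k * k = c) : IsA (π k) := by
  rcases inv_class (π k) (fun h => by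
    rcases (hD.ker k).1 h with h | h
    · rw [h, one_mul] at hk; exact hD.ne hk.symm
    · rw [h, hD.sq] at hk; exact hD.ne hk.symm) (by rw [← map_mul, hk, pc hD]) with h | h
  · exact h
  · have := sqB hD (x := k) h
    rw [hk] at this
    exact (hD.ne this).elim

theorem v_conj (hD : Dbl π c) {k m : L} (hk : k * k = c) (hm : m * m = c) : ∃ g, g * k * g⁻¹ = m := by
  obtain ⟨Y, P, hY, hP⟩ := conj_yc hD
  have key : ∀ k : L, k * k = c → ∃ g, g * Y * g⁻¹ = k := by
    intro k hk
    obtain ⟨h, hh⟩ := isA_of_sq hD hk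
    obtain ⟨g, rfl⟩ := hD.surj h
    have h1 : π k = π (g⁻¹ * Y * g) := by rw [map_mul, map_mul, map_inv, hY, hh]
    rcases eq_or hD h1 with h2 | h2
    · exact ⟨g⁻¹, by rw [h2, inv_inv]⟩
    · refine ⟨g⁻¹ * P, ?_⟩
      rw [h2]
      calc g⁻¹ * P * Y * (g⁻¹ * P)⁻¹ = g⁻¹ * (P * Y * P⁻¹) * g := by group
        _ = g⁻¹ * Y * (c * g) := by rw [hP]; group
        _ = g⁻¹ * Y * (g * c) := by rw [hD.cen]
        _ = _ := by group
  obtain ⟨a, ha⟩ := key k hk
  obtain ⟨b, hb⟩ := key m hm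
  refine ⟨b * a⁻¹, ?_⟩
  rw [← ha, ← hb]
  group

end Cfsg.Agent.OddHalf.D9.TwoM12

end
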